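import Groth.Agent.LieS93.Basic

/-!
The coordinate-multiplying map of iterated dual numbers is an epimorphism.
-/

set_option autoImplicit false
set_option backward.isDefEq.respectTransparency false

universe u

noncomputable section

open CategoryTheory MonoidalCategory CartesianMonoidalCategory MonObj GrpObj AlgebraicGeometry

namespace Groth.Agent.LieS93

lemma fst_comap_surjective (B : Type u) [CommRing B] :
    Function.Surjective (PrimeSpectrum.comap (TrivSqZeroExt.fstHom B B B).toRingHom) := by
  rw [← Set.range_eq_univ, range_comap_of_surjective (hf := fun b => ⟨TrivSqZeroExt.inl b, rfl⟩)]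
  refine Set.eq_univ_of_forall fun x t ht => ?_
  have h0 : t.fst = 0 := RingHom.mem_ker.1 ht
  have : t * t = 0 := by refine TrivSqZeroExt.ext ?_ ?_ <;> simp [h0]
  exact (x.isPrime.mem_or_mem (this ▸ x.asIdeal.zero_mem)).elim id id

lemma mulHom_injective (B : Type u) [CommRing B] : Function.Injective (LieS.mulHom B) := by
  intro x y h
  have h1 := congrArg (fun t : LieS.D2 B => t.fst.fst) h
  have h2 := congrArg (fun t : LieS.D2 B => t.snd.snd) h
  simp [LieS.mulHom, TrivSqZeroExt.algebraMap_eq_inl'] at h1 h2
  exact TrivSqZeroExt.ext h1 h2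

lemma mulHom_comap_surjective (B : Type u) [CommRing B] :
    Function.Surjective (PrimeSpectrum.comap (R := DualNumber B) (S := LieS.D2 B) (LieS.mulHom B)) := by
  intro x
  obtain ⟨y, hy⟩ := fst_comap_surjective B x
  refine ⟨PrimeSpectrum.comap ((TrivSqZeroExt.fstHom B B B).toRingHom.comp
    (TrivSqZeroExt.fstHom (DualNumber B) (DualNumber B) (DualNumber B)).toRingHom) y, ?_⟩
  rw [← hy, ← PrimeSpectrum.comap_comp_apply]
  congr 1
  refine RingHom.ext fun t => ?_
  simp [LieS.mulHom, TrivSqZeroExt.algebraMap_eq_inl']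

variable {S : Scheme.{u}} {B : Type u} [CommRing B] (f : Spec (CommRingCat.of B) ⟶ S)

lemma mulMap_cancel {Y : Over S} (a b : LieS.dpt B f ⟶ Y)
    (h : LieS.mulMap B f ≫ a = LieS.mulMap B f ≫ b) : a = b := by
  ext : 1
  refine hom_ext_of_injective (X := Spec (CommRingCat.of (DualNumber B)))
    (Z := fun _ : Unit => Spec (CommRingCat.of (LieS.D2 B)))
    (fun _ => Spec.map (CommRingCat.ofHom (LieS.mulHom B))) ?_ ?_ a.left b.left
    fun _ => congrArg CommaMorphism.left h
  · exact fun x => ⟨(), mulHom_comap_surjective B x⟩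
  · intro m hm
    obtain ⟨t, rfl⟩ := (ConcreteCategory.bijective_of_isIso
      (Scheme.ΓSpecIso (CommRingCat.of (DualNumber B))).inv).2 m
    have := hm ()
    rw [← ConcreteCategory.comp_apply, ← Scheme.ΓSpecIso_inv_naturality, ConcreteCategory.comp_apply] at this
    have ht : LieS.mulHom B t = 0 :=
      (ConcreteCategory.bijective_of_isIso (Scheme.ΓSpecIso (CommRingCat.of (LieS.D2 B))).inv).1
        (this.trans (map_zero _).symm)
    rw [mulHom_injective B (ht.trans (map_zero _).symm), map_zero]

end Groth.Agent.LieS93
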