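import Mathlib

/-!
Morphisms out of an affine scheme are determined by their restrictions along finitely many morphisms
which are jointly surjective and jointly injective on functions.
-/

set_option autoImplicit false
set_option backward.isDefEq.respectTransparency false

universe u

open CategoryTheory AlgebraicGeometry TopologicalSpace Opposite

namespace Groth.Agent.LieS93

theorem hom_ext_of_injective {X Y : Scheme.{u}} [IsAffine X] {ι : Type*} [Finite ι] {Z : ι → Scheme.{u}}
    [∀ i, IsAffine (Z i)] (g : ∀ i, Z i ⟶ X) (hs : ∀ x, ∃ i z, g i z = x)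
    (hinj : ∀ m : Γ(X, ⊤), (∀ i, (g i).appTop m = 0) → m = 0)
    (a b : X ⟶ Y) (h : ∀ i, g i ≫ a = g i ≫ b) : a = b := by
  classical
  cases nonempty_fintype ι
  have hpt : ∀ x, a x = b x := by
    intro x
    obtain ⟨i, z, rfl⟩ := hs x
    rw [← Scheme.Hom.comp_apply, ← Scheme.Hom.comp_apply, h i]
  refine Scheme.hom_ext_of_forall a b fun x => ?_
  obtain ⟨_, ⟨(W : Y.Opens), hW, rfl⟩, hxW, -⟩ :=
    Y.isBasis_affineOpens.exists_subset_of_mem_open (Set.mem_univ (a x)) isOpen_univ
  obtain ⟨_, ⟨_, ⟨s, rfl⟩, rfl⟩, hxU, hle⟩ := (isBasis_basicOpen X).exists_subset_of_mem_open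
    (show x ∈ ((a ⁻¹ᵁ W ⊓ b ⁻¹ᵁ W : X.Opens) : Set X) from ⟨hxW, show b x ∈ W from hpt x ▸ hxW⟩)
    (a ⁻¹ᵁ W ⊓ b ⁻¹ᵁ W).2
  refine ⟨X.basicOpen s, hxU, ?_⟩
  have ea : X.basicOpen s ≤ a ⁻¹ᵁ W := fun z hz => (hle hz).1
  have eb : X.basicOpen s ≤ b ⁻¹ᵁ W := fun z hz => (hle hz).2
  have key : a.appLE W _ ea = b.appLE W _ eb := by
    ext c
    rw [← sub_eq_zero]
    set d := a.appLE W _ ea c - b.appLE W _ eb c
    have hd : ∀ i, (g i).app (X.basicOpen s) d = 0 := by
      intro i
      rw [map_sub, sub_eq_zero, Scheme.Hom.app_eq_appLE, ← CommRingCat.comp_apply, ← CommRingCat.comp_apply,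
        Scheme.Hom.appLE_comp_appLE, Scheme.Hom.appLE_comp_appLE]
      simp only [h i]
    letI := (X.presheaf.map (homOfLE (X.basicOpen_le s)).op).hom.toAlgebra
    have := (isAffineOpen_top X).isLocalization_basicOpen s
    obtain ⟨⟨m, ⟨_, n, rfl⟩⟩, hm⟩ := IsLocalization.surj (Submonoid.powers s) d
    change d * X.presheaf.map (homOfLE (X.basicOpen_le s)).op (s ^ n) =
      X.presheaf.map (homOfLE (X.basicOpen_le s)).op m at hm
    have hk : ∀ i, ∃ k, (g i).appTop s ^ k * (g i).appTop m = 0 := by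
      intro i
      refine exists_pow_mul_eq_zero_of_res_basicOpen_eq_zero_of_isAffineOpen (Z i) (isAffineOpen_top _) _ _ ?_
      have nat : X.presheaf.map (homOfLE (X.basicOpen_le s)).op ≫ (g i).app (X.basicOpen s) =
          (g i).appTop ≫ (Z i).presheaf.map (homOfLE le_top).op := (g i).naturality _
      have hz : (Z i).presheaf.map (homOfLE le_top).op ((g i).appTop m) =
          (0 : Γ(Z i, (g i) ⁻¹ᵁ X.basicOpen s)) := by
        have := congr($nat m)
        rw [CommRingCat.comp_apply, CommRingCat.comp_apply, ← hm, map_mul, hd, zero_mul] at this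
        exact this.symm
      have hEq : (Z i).basicOpen ((g i).appTop s) ≤ (g i) ⁻¹ᵁ X.basicOpen s :=
        ((g i).preimage_basicOpen_top s).ge
      have := congrArg ((Z i).presheaf.map (homOfLE hEq).op) hz
      rw [map_zero, ← CommRingCat.comp_apply, ← Functor.map_comp] at this
      exact this
    choose k hk using hk
    have hsm : s ^ (Finset.univ.sup k) * m = 0 := hinj _ fun i => by
      obtain ⟨j, hj⟩ := Nat.exists_eq_add_of_le (Finset.le_sup (f := k) (Finset.mem_univ i))
      rw [map_mul, map_pow, hj, pow_add, mul_right_comm, hk i, zero_mul]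
    have hu : IsUnit (X.presheaf.map (homOfLE (X.basicOpen_le s)).op s) :=
      X.toRingedSpace.isUnit_res_basicOpen s
    have := congrArg (X.presheaf.map (homOfLE (X.basicOpen_le s)).op) hsm
    rw [map_mul, ← hm, map_zero, map_pow, map_pow, mul_comm d, ← mul_assoc, ← pow_add] at this
    exact (hu.pow _).mul_right_eq_zero.1 this
  rw [← Scheme.Hom.resLE_comp_ι a ea, ← Scheme.Hom.resLE_comp_ι b eb]
  congr 1
  have : IsAffine (W : Scheme.{u}) := hW
  rw [← cancel_mono (W : Scheme.{u}).isoSpec.hom]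
  simp only [Scheme.isoSpec, asIso_hom, Scheme.toSpecΓ_naturality,
    Scheme.Hom.app_eq_appLE, Scheme.Hom.resLE_appLE, Scheme.Hom.appTop]
  congr 2
  have : ∀ (U₀ : X.Opens) (V₀ : Y.Opens) (eU : X.basicOpen s = U₀) (eV : W = V₀),
      a.appLE V₀ U₀ (eU ▸ eV ▸ ea) = b.appLE V₀ U₀ (eU ▸ eV ▸ eb) := by
    rintro _ _ rfl rfl; exact key
  apply this <;> simp

end Groth.Agent.LieS93
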