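import Groth.Prelude.Def_LieS
import Groth.Agent.LieS93.Ext

/-!
The group law of the Lie algebra of a group scheme is commutative and the rescaling action is linear.
-/

set_option autoImplicit false
set_option backward.isDefEq.respectTransparency false

universe u

noncomputable section

open CategoryTheory MonoidalCategory CartesianMonoidalCategory MonObj GrpObj AlgebraicGeometry

namespace Groth.Agent.LieS93

variable {S : Scheme.{u}} {B : Type u} [CommRing B] (f : Spec (CommRingCat.of B) ⟶ S)

section Objects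

variable (M : Type u) [AddCommGroup M] [Module B M] [Module Bᵐᵒᵖ M] [IsCentralScalar B M]
  (N : Type u) [AddCommGroup N] [Module B N] [Module Bᵐᵒᵖ N] [IsCentralScalar B N]

/-- The square-zero thickening of `Spec B` by a module. -/
def sz : Over S :=
  Over.mk (Spec.map (CommRingCat.ofHom (algebraMap B (TrivSqZeroExt B M))) ≫ f)

/-- The zero section of a square-zero thickening. -/
def z : LieS.pt B f ⟶ sz f M :=
  Over.homMk (Spec.map (CommRingCat.ofHom (TrivSqZeroExt.fstHom B B M).toRingHom)) (by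
    change Spec.map _ ≫ Spec.map _ ≫ f = f
    rw [← Category.assoc, LieS.specMap_comp]
    rw [show (TrivSqZeroExt.fstHom B B M).toRingHom.comp (algebraMap B (TrivSqZeroExt B M)) = RingHom.id B
      from RingHom.ext fun x => rfl, CommRingCat.ofHom_id]
    erw [Spec.map_id]; exact Category.id_comp f)

/-- The projection of a square-zero thickening. -/
def p : sz f M ⟶ LieS.pt B f :=
  Over.homMk (Spec.map (CommRingCat.ofHom (algebraMap B (TrivSqZeroExt B M)))) rfl

variable {M N}

/-- The morphism of square-zero thickenings of a linear map. -/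
def sm (L : M →ₗ[B] N) : sz f N ⟶ sz f M :=
  Over.homMk (Spec.map (CommRingCat.ofHom (TrivSqZeroExt.map L).toRingHom)) (by
    change Spec.map _ ≫ Spec.map _ ≫ f = Spec.map _ ≫ f
    rw [← Category.assoc, LieS.specMap_comp]
    congr 3
    exact RingHom.ext fun x => (TrivSqZeroExt.map L).commutes x)

lemma sm_left (L : M →ₗ[B] N) :
    (sm f L).left = Spec.map (CommRingCat.ofHom (TrivSqZeroExt.map L).toRingHom) := rfl

lemma sm_id : sm f (LinearMap.id : M →ₗ[B] M) = 𝟙 (sz f M) := by
  ext : 1
  rw [sm_left, TrivSqZeroExt.map_id]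
  erw [Spec.map_id]
  rfl

lemma sm_comp {K : Type u} [AddCommGroup K] [Module B K] [Module Bᵐᵒᵖ K] [IsCentralScalar B K]
    (L : M →ₗ[B] N) (L' : N →ₗ[B] K) : sm f L' ≫ sm f L = sm f (L' ∘ₗ L) := by
  ext : 1
  rw [Over.comp_left, sm_left, sm_left, sm_left, LieS.specMap_comp]
  congr 2
  exact RingHom.ext fun x => (AlgHom.congr_fun (TrivSqZeroExt.map_comp_map L L') x).symm

lemma z_sm (L : M →ₗ[B] N) : z f N ≫ sm f L = z f M := by
  ext : 1
  change Spec.map _ ≫ Spec.map _ = Spec.map _
  rw [LieS.specMap_comp]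
  congr 2
  exact RingHom.ext fun x => TrivSqZeroExt.fst_map L x

lemma sm_zero : sm f (0 : M →ₗ[B] N) = p f N ≫ z f M := by
  ext : 1
  change Spec.map _ = Spec.map _ ≫ Spec.map _
  rw [LieS.specMap_comp]
  congr 2
  refine RingHom.ext fun x => ?_
  refine TrivSqZeroExt.ext ?_ ?_ <;> simp [TrivSqZeroExt.algebraMap_eq_inl]

end Objects

variable (G : Over S) [GrpObj G]

lemma scale_eq (b : B) : LieS.scale B f b = sm f (b • (LinearMap.id : B →ₗ[B] B)) := by
  ext : 1
  change Spec.map _ = Spec.map _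
  congr 2
  refine RingHom.ext fun x => ?_
  refine TrivSqZeroExt.ext ?_ ?_ <;>
    simp [LieS.scaleHom, TrivSqZeroExt.algebraMap_eq_inl', DualNumber.snd_mul, mul_comm]

/-- The first and second axes are jointly epimorphic. -/
lemma pair_ext {Y : Over S} (a b : sz f (B × B) ⟶ Y)
    (h₁ : sm f (LinearMap.fst B B B) ≫ a = sm f (LinearMap.fst B B B) ≫ b)
    (h₂ : sm f (LinearMap.snd B B B) ≫ a = sm f (LinearMap.snd B B B) ≫ b) : a = b := by
  ext : 1
  let L : Fin 2 → (B × B →ₗ[B] B) := ![LinearMap.fst B B B, LinearMap.snd B B B]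
  have hL : ∀ i, sm f (L i) ≫ a = sm f (L i) ≫ b := by
    intro i; fin_cases i
    · exact h₁
    · exact h₂
  refine hom_ext_of_injective (X := Spec (CommRingCat.of (TrivSqZeroExt B (B × B))))
    (Z := fun _ : Fin 2 => Spec (CommRingCat.of (TrivSqZeroExt B B)))
    (fun i => Spec.map (CommRingCat.ofHom (TrivSqZeroExt.map (L i)).toRingHom)) ?_ ?_ a.left b.left
    fun i => congrArg CommaMorphism.left (hL i)
  · intro x
    obtain ⟨y, hy⟩ : x ∈ Set.range (PrimeSpectrum.comap (TrivSqZeroExt.map (L 0)).toRingHom) := by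
      rw [range_comap_of_surjective (hf := fun t =>
        ⟨TrivSqZeroExt.map (LinearMap.inl B B B) t, by
          show TrivSqZeroExt.map (L 0) (TrivSqZeroExt.map _ t) = t
          rw [← AlgHom.comp_apply, ← TrivSqZeroExt.map_comp_map]
          simp [L, TrivSqZeroExt.map_id]⟩)]
      intro t ht
      have h0 : t.fst = 0 := by
        simpa using congrArg TrivSqZeroExt.fst (RingHom.mem_ker.1 ht)
      have : t * t = 0 := by
        refine TrivSqZeroExt.ext ?_ ?_ <;> simp [h0]
      exact (x.isPrime.mem_or_mem (this ▸ x.asIdeal.zero_mem)).elim id id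
    exact ⟨0, y, hy⟩
  · intro m hm
    have e := Scheme.ΓSpecIso (CommRingCat.of (TrivSqZeroExt B (B × B)))
    obtain ⟨t, rfl⟩ := (ConcreteCategory.bijective_of_isIso
      (Scheme.ΓSpecIso (CommRingCat.of (TrivSqZeroExt B (B × B)))).inv).2 m
    have ht : ∀ i, TrivSqZeroExt.map (L i) t = 0 := by
      intro i
      have := hm i
      rw [← ConcreteCategory.comp_apply, ← Scheme.ΓSpecIso_inv_naturality, ConcreteCategory.comp_apply] at this
      exact (ConcreteCategory.bijective_of_isIso (Scheme.ΓSpecIso (CommRingCat.of (TrivSqZeroExt B B))).inv).1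
        (this.trans (map_zero _).symm)
    have h0 := congrArg TrivSqZeroExt.fst (ht 0)
    have hx := congrArg TrivSqZeroExt.snd (ht 0)
    have hy := congrArg TrivSqZeroExt.snd (ht 1)
    have : t = 0 := by
      refine TrivSqZeroExt.ext (by simpa using h0) (Prod.ext ?_ ?_)
      · simpa [L] using hx
      · simpa [L] using hy
    rw [this, map_zero]

variable {G}

lemma val_mem (v : LieS.Lie G B f) : z f B ≫ v.1 = 1 := v.2

lemma sm_zero_comp {N : Type u} [AddCommGroup N] [Module B N] [Module Bᵐᵒᵖ N] [IsCentralScalar B N]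
    (v : LieS.Lie G B f) : sm f (0 : B →ₗ[B] N) ≫ v.1 = 1 := by
  rw [sm_zero, Category.assoc, val_mem, MonObj.comp_one]

lemma sm_id_comp (v : sz f B ⟶ G) : sm f (LinearMap.id : B →ₗ[B] B) ≫ v = v := by
  rw [sm_id, Category.id_comp]

/-- The point of the double thickening with given axes. -/
def pr₁ (v : LieS.Lie G B f) : sz f (B × B) ⟶ G := sm f (LinearMap.inl B B B) ≫ v.1

/-- The point of the double thickening with given axes. -/
def pr₂ (v : LieS.Lie G B f) : sz f (B × B) ⟶ G := sm f (LinearMap.inr B B B) ≫ v.1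

lemma fst_pr₁ (v : LieS.Lie G B f) : sm f (LinearMap.fst B B B) ≫ pr₁ f v = v.1 := by
  rw [pr₁, ← Category.assoc, sm_comp, LinearMap.fst_comp_inl]; exact sm_id_comp f v.1

lemma fst_pr₂ (v : LieS.Lie G B f) : sm f (LinearMap.fst B B B) ≫ pr₂ f v = 1 := by
  rw [pr₂, ← Category.assoc, sm_comp, LinearMap.fst_comp_inr]; exact sm_zero_comp f v

lemma snd_pr₁ (v : LieS.Lie G B f) : sm f (LinearMap.snd B B B) ≫ pr₁ f v = 1 := by
  rw [pr₁, ← Category.assoc, sm_comp, LinearMap.snd_comp_inl]; exact sm_zero_comp f v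

lemma snd_pr₂ (v : LieS.Lie G B f) : sm f (LinearMap.snd B B B) ≫ pr₂ f v = v.1 := by
  rw [pr₂, ← Category.assoc, sm_comp, LinearMap.snd_comp_inr]; exact sm_id_comp f v.1

lemma diag_pr₁ (v : LieS.Lie G B f) :
    sm f (LinearMap.fst B B B + LinearMap.snd B B B) ≫ pr₁ f v = v.1 := by
  rw [pr₁, ← Category.assoc, sm_comp, LinearMap.add_comp, LinearMap.fst_comp_inl, LinearMap.snd_comp_inl, add_zero]
  exact sm_id_comp f v.1

lemma diag_pr₂ (v : LieS.Lie G B f) :
    sm f (LinearMap.fst B B B + LinearMap.snd B B B) ≫ pr₂ f v = v.1 := by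
  rw [pr₂, ← Category.assoc, sm_comp, LinearMap.add_comp, LinearMap.fst_comp_inr, LinearMap.snd_comp_inr, zero_add]
  exact sm_id_comp f v.1

theorem lie_mul_comm (v w : LieS.Lie G B f) : v * w = w * v := by
  have h : pr₁ f v * pr₂ f w = pr₂ f w * pr₁ f v := by
    refine pair_ext f _ _ ?_ ?_
    · simp only [MonObj.comp_mul, fst_pr₁, fst_pr₂, _root_.mul_one, _root_.one_mul]
    · simp only [MonObj.comp_mul, snd_pr₁, snd_pr₂, _root_.mul_one, _root_.one_mul]
  have h2 := sm f (LinearMap.fst B B B + LinearMap.snd B B B) ≫= h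
  simp only [MonObj.comp_mul, diag_pr₁, diag_pr₂] at h2
  exact Subtype.ext h2

theorem smul_mul' (b : B) (v w : LieS.Lie G B f) : b • (v * w) = b • v * b • w := by
  refine Subtype.ext ?_
  rw [Subgroup.coe_mul, LieS.smul_val, LieS.smul_val, LieS.smul_val, Subgroup.coe_mul, MonObj.comp_mul]

theorem add_smul' (b c : B) (v : LieS.Lie G B f) : (b + c) • v = b • v * c • v := by
  let gbc : B →ₗ[B] B × B := (b • LinearMap.id).prod (c • LinearMap.id)
  have h : sm f gbc ≫ v.1 = pr₁ f (b • v) * pr₂ f (c • v) := by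
    refine pair_ext f _ _ ?_ ?_
    · simp only [MonObj.comp_mul, fst_pr₁, fst_pr₂, _root_.mul_one]
      rw [← Category.assoc, sm_comp, LinearMap.fst_prod, LieS.smul_val, scale_eq]
    · simp only [MonObj.comp_mul, snd_pr₁, snd_pr₂, _root_.one_mul]
      rw [← Category.assoc, sm_comp, LinearMap.snd_prod, LieS.smul_val, scale_eq]
  refine Subtype.ext ?_
  have h2 := sm f (LinearMap.fst B B B + LinearMap.snd B B B) ≫= h
  simp only [MonObj.comp_mul, diag_pr₁, diag_pr₂] at h2
  rw [Subgroup.coe_mul, ← h2, ← Category.assoc, sm_comp, LinearMap.add_comp, LinearMap.fst_prod,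
    LinearMap.snd_prod, ← add_smul, LieS.smul_val, scale_eq]

theorem one_smul' (v : LieS.Lie G B f) : (1 : B) • v = v := by
  refine Subtype.ext ?_
  rw [LieS.smul_val, scale_eq, one_smul]
  exact sm_id_comp f v.1

theorem zero_smul' (v : LieS.Lie G B f) : (0 : B) • v = 1 := by
  refine Subtype.ext ?_
  rw [LieS.smul_val, scale_eq, zero_smul]
  exact sm_zero_comp f v

theorem intCast_smul (n : ℤ) (v : LieS.Lie G B f) : (n : B) • v = v ^ n := by
  induction n using Int.induction_on with
  | zero => simp [zero_smul']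
  | succ k ih => push_cast at *; rw [add_smul', ih, one_smul', zpow_add, zpow_one]
  | pred k ih =>
    push_cast at *
    have h := add_smul' f (-(k : B) - 1) 1 v
    rw [sub_add_cancel, ih, one_smul'] at h
    rw [zpow_sub, zpow_one, h, mul_inv_cancel_right]

end Groth.Agent.LieS93
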