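import Groth.Agent.LieS93.Points

/-!
Bilinearity, alternation and the Jacobi identity of the bracket on the Lie algebra of a group scheme.
-/

set_option autoImplicit false
set_option backward.isDefEq.respectTransparency false
set_option backward.isDefEq.respectTransparency.types false

universe u

noncomputable section

open CategoryTheory MonoidalCategory CartesianMonoidalCategory MonObj GrpObj AlgebraicGeometry

namespace Groth.Agent.LieS93

variable {S : Scheme.{u}} {G : Over S} [GrpObj G] {B : Type u} [CommRing B]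
  (f : Spec (CommRingCat.of B) ⟶ S)

section Group

variable {Γ : Type*} [Group Γ]

lemma com_mul_right (a b c : Γ) :
    a * (b * c) * a⁻¹ * (b * c)⁻¹ = a * b * a⁻¹ * b⁻¹ * (b * (a * c * a⁻¹ * c⁻¹) * b⁻¹) := by group

lemma com_mul_left (a b c : Γ) :
    a * b * c * (a * b)⁻¹ * c⁻¹ = a * (b * c * b⁻¹ * c⁻¹) * a⁻¹ * (a * c * a⁻¹ * c⁻¹) := by group

lemma commute_of_com {a b : Γ} (h : a * b * a⁻¹ * b⁻¹ = 1) : a * b = b * a := by
  calc a * b = a * b * a⁻¹ * b⁻¹ * (b * a) := by group
    _ = b * a := by rw [h, _root_.one_mul]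

lemma hall {a b c P Q M L R Sx : Γ} (hP : c * a * c⁻¹ * a⁻¹ = P) (hQ : c * b * c⁻¹ * b⁻¹ = Q)
    (hM : a * b * a⁻¹ * b⁻¹ = M) (hL : c * M * c⁻¹ * M⁻¹ = L) (hR : a * Q * a⁻¹ * Q⁻¹ = R)
    (hS : P * b * P⁻¹ * b⁻¹ = Sx) (hQM : Q * M = M * Q) (hPR : P * R = R * P) (hPM : P * M = M * P)
    (hPQ : P * Q * P⁻¹ * Q⁻¹ = 1) (hQS : Q * Sx = Sx * Q) (hSM : Sx * M = M * Sx) : L = R * Sx := by
  have e1 : c * M * c⁻¹ = P * a * (Q * b) * (P * a)⁻¹ * (Q * b)⁻¹ := by
    rw [← hM, ← hP, ← hQ]; group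
  have e2 : a * (Q * b) * a⁻¹ * (Q * b)⁻¹ = R * M := by
    rw [com_mul_right, hR, hM, hQM, _root_.mul_inv_cancel_right]
  have e3 : P * (Q * b) * P⁻¹ * (Q * b)⁻¹ = Sx := by
    rw [com_mul_right, hPQ, _root_.one_mul, hS, hQS, _root_.mul_inv_cancel_right]
  have hPRM : P * (R * M) = R * M * P := by
    rw [← _root_.mul_assoc, hPR, _root_.mul_assoc, hPM, ← _root_.mul_assoc]
  rw [com_mul_left, e2, e3, hPRM, _root_.mul_inv_cancel_right] at e1
  calc L = c * M * c⁻¹ * M⁻¹ := hL.symm
    _ = R * (Sx * M) * M⁻¹ := by rw [e1, hSM, ← _root_.mul_assoc R M Sx]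
    _ = R * Sx := by group

end Group

section Ring

variable {A : Type u} [CommRing A]

lemma mul_sq_zero (u v : A) (hv : v * v = 0) : u * v * (u * v) = 0 := by linear_combination (u * u) * hv

lemma mul_left_zero (u v : A) (hu : u * u = 0) : u * (u * v) = 0 := by linear_combination v * hu

lemma mul_right_zero (u v : A) (hv : v * v = 0) : v * (u * v) = 0 := by linear_combination u * hv

end Ring

variable {C : Type u} [CommRing C] (h : B →+* C)

lemma val_commute {c d : C} (hc : c * c = 0) (hd : d * d = 0) (e : c * d = 0) (x y : LieS.Lie G B f) :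
    val f h c hc x * val f h d hd y = val f h d hd y * val f h c hc x := by
  refine commute_of_com ((com_val f h hc hd (mul_zero 0) e x y).trans ?_)
  exact val_of_eq_zero f h 0 _ rfl _

lemma V₁_V₁₂_commute (y z : LieS.Lie G B f) : V₁ f y * V₁₂ f z = V₁₂ f z * V₁ f y :=
  val_commute f _ _ _ (mul_left_zero (A := LieS.D2 B) _ _ (e₁_sq (B := B))) y z

lemma V₂_V₁₂_commute (y z : LieS.Lie G B f) : V₂ f y * V₁₂ f z = V₁₂ f z * V₂ f y :=
  val_commute f _ _ _ (mul_right_zero (A := LieS.D2 B) _ _ (e₂_sq (B := B))) y z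

lemma V₁₂_bk (x y : LieS.Lie G B f) : V₁₂ f (bk f x y) = com (V₂ f x) (V₁ f y) :=
  (isBracket_iff f x y _).1 (bk_spec f x y)

theorem bk_mul_right (x y z : LieS.Lie G B f) : bk f x (y * z) = bk f x y * bk f x z := by
  refine (bk_unique f ?_).symm
  have k1 : V₁₂ f (bk f x y * bk f x z) = V₁₂ f (bk f x y) * V₁₂ f (bk f x z) := val_mul _ _ _ _ _ _
  have k2 : V₁ f (y * z) = V₁ f y * V₁ f z := val_mul _ _ _ _ _ _
  rw [k1, k2]
  simp only [com] at *
  rw [com_mul_right]
  change _ = com (V₂ f x) (V₁ f y) * (V₁ f y * com (V₂ f x) (V₁ f z) * (V₁ f y)⁻¹)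
  rw [← V₁₂_bk, ← V₁₂_bk, V₁_V₁₂_commute, _root_.mul_inv_cancel_right]

theorem bk_mul_left (x y z : LieS.Lie G B f) : bk f (x * y) z = bk f x z * bk f y z := by
  refine (bk_unique f ?_).symm
  have k1 : V₁₂ f (bk f x z * bk f y z) = V₁₂ f (bk f y z) * V₁₂ f (bk f x z) := by
    rw [lie_mul_comm]; exact val_mul _ _ _ _ _ _
  have k2 : V₂ f (x * y) = V₂ f x * V₂ f y := val_mul _ _ _ _ _ _
  rw [k1, k2]
  simp only [com] at *
  rw [com_mul_left]
  change _ = V₂ f x * com (V₂ f y) (V₁ f z) * (V₂ f x)⁻¹ * com (V₂ f x) (V₁ f z)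
  rw [← V₁₂_bk, ← V₁₂_bk, V₂_V₁₂_commute, _root_.mul_inv_cancel_right]

theorem bk_smul_right (b : B) (x y : LieS.Lie G B f) : bk f x (b • y) = b • bk f x y := by
  refine (bk_unique f ?_).symm
  have hd : (LieS.toD2 B b * e₁ B) * (LieS.toD2 B b * e₁ B) = 0 :=
    mul_sq_zero (A := LieS.D2 B) _ _ (e₁_sq (B := B))
  have he : (LieS.toD2 B b * (e₁ B * e₂ B)) * (LieS.toD2 B b * (e₁ B * e₂ B)) = 0 :=
    mul_sq_zero (A := LieS.D2 B) _ _ (e₁₂_sq (B := B))
  have k1 : V₁₂ f (b • bk f x y) = val (C := LieS.D2 B) f (LieS.toD2 B) _ he (bk f x y) :=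
    smul_val' f _ b _ _ he rfl _
  have k2 : V₁ f (b • y) = val (C := LieS.D2 B) f (LieS.toD2 B) _ hd y := smul_val' f _ b _ _ hd rfl _
  rw [k1, k2]
  exact (com_val f _ _ hd he (by ring) x y).symm

lemma swap_of_sym (t : LieS.D2 B) (ht : t.fst.snd = t.snd.fst) :
    pairHom (C := LieS.D2 B) (LieS.toD2 B) (e₁ B) (e₂ B) (e₁_sq (B := B)) (e₂_sq (B := B)) t = t := by
  simp only [pairHom, LieS.dualHom_apply]
  refine TrivSqZeroExt.ext (TrivSqZeroExt.ext ?_ ?_) (TrivSqZeroExt.ext ?_ ?_) <;>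
    simp [e₁, e₂, TrivSqZeroExt.algebraMap_eq_inl', ht]

set_option maxHeartbeats 1600000 in
theorem bk_self (x : LieS.Lie G B f) : bk f x x = 1 := by
  refine (bk_unique f ?_).symm
  have k1 : V₁₂ f (1 : LieS.Lie G B f) = 1 := val_one _ _ _ _
  rw [k1]
  let E : Subring (LieS.D2 B) :=
    { carrier := {t | t.fst.snd = t.snd.fst}
      mul_mem' := fun {s t} hs ht => by
        simp only [Set.mem_setOf_eq] at hs ht ⊢
        simp [DualNumber.snd_mul, hs, ht]
      one_mem' := by simp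
      add_mem' := fun {s t} hs ht => by
        simp only [Set.mem_setOf_eq] at hs ht ⊢
        simp [hs, ht]
      zero_mem' := by simp
      neg_mem' := fun {t} ht => by
        simp only [Set.mem_setOf_eq] at ht ⊢
        simp [ht] }
  let dg : B →ₗ[B] B × B := LinearMap.id.prod LinearMap.id
  have sq : H98QP.Square (C := E) (A₀ := DualNumber B) (B' := LieS.D2 B) (B := TrivSqZeroExt B (B × B))
      ((TrivSqZeroExt.fstHom (DualNumber B) (DualNumber B) (DualNumber B)).toRingHom.comp E.subtype) E.subtype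
      (TrivSqZeroExt.map dg).toRingHom (mod12 B) :=
    { comm := RingHom.ext fun t => by
        have ht : (t : LieS.D2 B).fst.snd = (t : LieS.D2 B).snd.fst := t.2
        refine TrivSqZeroExt.ext ?_ (Prod.ext ?_ ?_) <;> simp [mod12_apply, dg, ht]
      surj := square.surj
      ext := fun a b _ hq => Subtype.ext hq
      lift := fun a b hab => by
        have e0 := congrArg TrivSqZeroExt.fst hab
        have e1 := congrArg (fun t => (TrivSqZeroExt.snd t).1) hab
        have e2 := congrArg (fun t => (TrivSqZeroExt.snd t).2) hab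
        simp [mod12_apply, dg] at e0 e1 e2
        refine ⟨⟨b, ?_⟩, ?_, rfl⟩
        · show b.fst.snd = b.snd.fst
          rw [← e1, ← e2]
        · exact (TrivSqZeroExt.ext e0 e1).symm }
  let w := V₂ f x * V₁ f x
  have hone : ∀ (n : B) (_ : n = 1), val (C := DualNumber B) f (algebraMap B (DualNumber B))
      (TrivSqZeroExt.inr n) (TrivSqZeroExt.inr_mul_inr B n n) x = x.1 := by
    rintro n rfl
    exact (val_eq f _ _ _ rfl x).trans (val_eps f x)
  have hzero : ∀ (n : B) (_ : n = 0), val (C := DualNumber B) f (algebraMap B (DualNumber B))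
      (TrivSqZeroExt.inr n) (TrivSqZeroExt.inr_mul_inr B n n) x = 1 := by
    rintro n rfl
    exact val_of_eq_zero f _ _ _ (TrivSqZeroExt.inr_zero B) x
  have hT : sm f dg ≫ x.1 = m12 f ≫ w := by
    have hw : m12 f ≫ w = (m12 f ≫ V₂ f x) * (m12 f ≫ V₁ f x) := MonObj.comp_mul _ _ _
    rw [hw, m12_V₁, m12_V₂]
    refine pair_ext f _ _ ?_ ?_
    · refine Eq.trans ?_ (MonObj.comp_mul _ _ _).symm
      have l1 := (sm_val f (LinearMap.fst B B B) (0, 1) 0 rfl x).trans (hzero 0 rfl)
      have l2 := (sm_val f (LinearMap.fst B B B) (1, 0) 1 rfl x).trans (hone 1 rfl)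
      refine Eq.trans ?_ (congrArg₂ (· * ·) l1 l2).symm
      refine ((Category.assoc _ _ _).symm.trans ?_).trans (_root_.one_mul _).symm
      refine (congrArg (· ≫ x.1) (sm_comp f _ _)).trans ?_
      exact sm_id_comp f x.1
    · refine Eq.trans ?_ (MonObj.comp_mul _ _ _).symm
      have l1 := (sm_val f (LinearMap.snd B B B) (0, 1) 1 rfl x).trans (hone 1 rfl)
      have l2 := (sm_val f (LinearMap.snd B B B) (1, 0) 0 rfl x).trans (hzero 0 rfl)
      refine Eq.trans ?_ (congrArg₂ (· * ·) l1 l2).symm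
      refine ((Category.assoc _ _ _).symm.trans ?_).trans (_root_.mul_one _).symm
      refine (congrArg (· ≫ x.1) (sm_comp f _ _)).trans ?_
      exact sm_id_comp f x.1
  obtain ⟨g, -, hg⟩ := sq.exists_glue (G := G.left) x.1.left w.left
    (((Over.comp_left ..).symm.trans (congrArg Over.Hom.left hT)).trans (Over.comp_left ..))
  let σ : LieS.D2 B →+* LieS.D2 B := pairHom (LieS.toD2 B) (e₁ B) (e₂ B) (e₁_sq (B := B)) (e₂_sq (B := B))
  have hσ : σ.comp E.subtype = E.subtype := RingHom.ext fun t => by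
    exact swap_of_sym (t : LieS.D2 B) t.2
  let sw := wm (C := LieS.D2 B) (C' := LieS.D2 B) f (LieS.toD2 B) σ (pairHom_comp _ _ _ _ _)
  have hsw : sw ≫ w = w := by
    ext : 1
    rw [Over.comp_left, ← hg, ← Category.assoc]
    congr 1
    exact (LieS.specMap_comp _ _).trans (by rw [hσ])
  have h1 : sw ≫ V₁ f x = V₂ f x := wm_val f _ _ _ _ _ (pairHom_e₁ _ _ _ _ _) x
  have h2 : sw ≫ V₂ f x = V₁ f x := wm_val f _ _ _ _ _ (pairHom_e₂ _ _ _ _ _) x
  have h12 : V₁ f x * V₂ f x = V₂ f x * V₁ f x := by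
    have := hsw
    rwa [MonObj.comp_mul, h1, h2] at this
  simp only [com]
  rw [← h12]
  group

lemma bk_smul_left (b : B) (x y : LieS.Lie G B f) : bk f (b • x) y = b • bk f x y := by
  refine (bk_unique f ?_).symm
  have hd : (LieS.toD2 B b * e₂ B) * (LieS.toD2 B b * e₂ B) = 0 :=
    mul_sq_zero (A := LieS.D2 B) _ _ (e₂_sq (B := B))
  have he : (LieS.toD2 B b * (e₁ B * e₂ B)) * (LieS.toD2 B b * (e₁ B * e₂ B)) = 0 :=
    mul_sq_zero (A := LieS.D2 B) _ _ (e₁₂_sq (B := B))
  have k1 : V₁₂ f (b • bk f x y) = val (C := LieS.D2 B) f (LieS.toD2 B) _ he (bk f x y) :=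
    smul_val' f _ b _ _ he rfl _
  have k2 : V₂ f (b • x) = val (C := LieS.D2 B) f (LieS.toD2 B) _ hd x := smul_val' f _ b _ _ hd rfl _
  rw [k1, k2]
  exact (com_val f _ hd _ he (by ring) x y).symm

/-- The Jacobi identity at the level of three square-zero elements. -/
theorem val_jacobi (a b c : C) (ha : a * a = 0) (hb : b * b = 0) (hc : c * c = 0) (x y z : LieS.Lie G B f)
    (hw : a * b * c * (a * b * c) = 0) :
    val f h (a * b * c) hw (bk f z (bk f x y)) =
      val f h (a * b * c) hw (bk f x (bk f z y) * bk f (bk f z x) y) := by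
  have sq : ∀ {p q : C}, p * p = 0 → p * q * (p * q) = 0 := fun {p q} hp => by
    linear_combination (q * q) * hp
  rw [val_mul]
  exact hall
    (hP := com_val f h hc ha (sq hc) rfl z x)
    (hQ := com_val f h hc hb (sq hc) rfl z y)
    (hM := com_val f h ha hb (sq ha) rfl x y)
    (hL := com_val f h hc (sq ha) hw (by ring) z (bk f x y))
    (hR := com_val f h ha (sq hc) hw (by ring) x (bk f z y))
    (hS := com_val f h (sq hc) hb hw (by ring) (bk f z x) y)
    (hQM := val_commute f h _ _ (by linear_combination (c * a) * hb) _ _)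
    (hPR := val_commute f h _ _ (by linear_combination (a * b * a) * hc) _ _)
    (hPM := val_commute f h _ _ (by linear_combination (c * b) * ha) _ _)
    (hPQ := (com_val f h (sq hc) (sq hc) (mul_zero 0) (by linear_combination (a * b) * hc) _ _).trans
      (val_of_eq_zero f h 0 _ rfl _))
    (hQS := val_commute f h _ _ (by linear_combination (a * b * b) * hc) _ _)
    (hSM := val_commute f h _ _ (by linear_combination (a * b * b * c) * ha * 0 + (c * b * b) * ha) _ _)

set_option maxHeartbeats 1600000 in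
/-- The Jacobi identity after pulling back to three dual coordinates. -/
lemma jacobi_left {A : Type u} [CommRing A] (h : B →+* A) (a₀ : A) (ha : a₀ * a₀ = 0)
    (hq : algebraMap A (DualNumber A) a₀ * DualNumber.eps * (algebraMap A (DualNumber A) a₀ * DualNumber.eps) = 0)
    (x y z : LieS.Lie G B f) :
    let q := Spec.map (CommRingCat.ofHom (R := DualNumber A) (S := LieS.D2 A) (LieS.mulHom A)) ≫
      Spec.map (CommRingCat.ofHom (LieS.dualHom (C := DualNumber A) ((algebraMap A (DualNumber A)).comp h)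
        (algebraMap A (DualNumber A) a₀ * DualNumber.eps) hq))
    q ≫ (bk f z (bk f x y)).1.left = q ≫ (bk f x (bk f z y) * bk f (bk f z x) y).1.left := by
  let h3 : B →+* LieS.D2 A := (LieS.toD2 A).comp h
  have ha' : LieS.toD2 A a₀ * LieS.toD2 A a₀ = 0 := by rw [← map_mul, ha, map_zero]
  have hw := mul_sq_zero (A := LieS.D2 A) (LieS.toD2 A a₀ * e₁ A) (e₂ A) (e₂_sq (B := A))
  have hcomp : (LieS.mulHom A).comp (LieS.dualHom (C := DualNumber A) ((algebraMap A (DualNumber A)).comp h)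
        (algebraMap A (DualNumber A) a₀ * DualNumber.eps) hq) =
      LieS.dualHom (C := LieS.D2 A) h3 _ hw := by
    refine RingHom.ext fun t => ?_
    refine TrivSqZeroExt.ext (TrivSqZeroExt.ext ?_ ?_) (TrivSqZeroExt.ext ?_ ?_) <;>
      simp [LieS.mulHom, h3, e₁, e₂, TrivSqZeroExt.algebraMap_eq_inl']
  intro q
  have key : ∀ v : LieS.Lie G B f, q ≫ v.1.left = (val (C := LieS.D2 A) f h3 _ hw v).left := fun v => by
    rw [val, Over.comp_left]
    congr 1
    show Spec.map _ ≫ Spec.map _ = Spec.map _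
    rw [LieS.specMap_comp, hcomp]
  have J := val_jacobi f (C := LieS.D2 A) h3 _ _ _ ha' (e₁_sq (B := A)) (e₂_sq (B := A)) x y z hw
  rw [key (bk f z (bk f x y)), key (bk f x (bk f z y) * bk f (bk f z x) y)]
  exact congrArg Over.Hom.left J

theorem bk_jacobi (x y z : LieS.Lie G B f) : bk f z (bk f x y) = bk f x (bk f z y) * bk f (bk f z x) y := by
  refine Subtype.ext (mulMap_cancel f _ _ (mulMap_cancel (LieS.dpt B f).hom _ _ (Over.OverMorphism.ext ?_)))
  have := jacobi_left f (A := DualNumber B) (algebraMap B (DualNumber B)) DualNumber.eps (LieS.eps_sq B)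
    (mul_sq_zero (A := LieS.D2 B) _ _ (LieS.eps_sq _)) x y z
  exact (Category.assoc _ _ _).symm.trans (this.trans (Category.assoc _ _ _))

theorem mul_smul' (b c : B) (v : LieS.Lie G B f) : (b * c) • v = b • c • v := by
  refine Subtype.ext ?_
  rw [LieS.smul_val, LieS.smul_val, LieS.smul_val, scale_eq, scale_eq, scale_eq, ← Category.assoc, sm_comp]
  congr 2
  ext
  simp

end Groth.Agent.LieS93
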