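import Groth.Agent.LieS93.Basic

/-!
Points of the dual numbers with values in an affine scheme factor through a section.
-/

set_option autoImplicit false
set_option backward.isDefEq.respectTransparency false

universe u

noncomputable section

open CategoryTheory MonoidalCategory CartesianMonoidalCategory MonObj GrpObj AlgebraicGeometry

namespace Groth.Agent.LieS93

variable {S : Scheme.{u}} {B : Type u} [CommRing B] (f : Spec (CommRingCat.of B) ⟶ S)

lemma factor {A : Type u} [CommRing A] {X' : Over S} (j : Spec (CommRingCat.of A) ⟶ X'.left)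
    (y : X' ⟶ LieS.dpt B f) :
    ∃ (h : B →+* A) (σ : LieS.pt A (Spec.map (CommRingCat.ofHom h) ≫ f) ⟶
        LieS.dpt A (Spec.map (CommRingCat.ofHom h) ≫ f))
      (jo : LieS.pt A (Spec.map (CommRingCat.ofHom h) ≫ f) ⟶ X'),
      jo.left = j ∧ σ ≫ LieS.proj A _ = 𝟙 _ ∧ jo ≫ y = σ ≫ LieS.dptMap f h := by
  let φ' : CommRingCat.of (DualNumber B) ⟶ CommRingCat.of A := Spec.preimage (j ≫ y.left)
  have hφ : Spec.map φ' = j ≫ y.left := Spec.map_preimage _
  let φ : DualNumber B →+* A := φ'.hom
  let c : A := φ DualNumber.eps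
  have hc : c * c = 0 := by rw [← map_mul, DualNumber.eps_mul_eps, map_zero]
  let h : B →+* A := φ.comp (algebraMap B (DualNumber B))
  let e : DualNumber A →+* A := LieS.dualHom (RingHom.id A) c hc
  have he : e.comp (algebraMap A (DualNumber A)) = RingHom.id A := LieS.dualHom_comp_algebraMap _ _ _
  have hfac : e.comp (LieS.bcHom h) = φ := by
    refine RingHom.ext fun x => ?_
    conv_rhs => rw [show x = algebraMap B (DualNumber B) x.fst + algebraMap B (DualNumber B) x.snd * DualNumber.eps
      from TrivSqZeroExt.ext (by simp [TrivSqZeroExt.algebraMap_eq_inl']) (by simp [TrivSqZeroExt.algebraMap_eq_inl'])]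
    rw [map_add, map_mul]
    simp [e, LieS.bcHom, h, c, TrivSqZeroExt.algebraMap_eq_inl']
  have hj : Spec.map (CommRingCat.ofHom h) ≫ f = j ≫ X'.hom := by
    rw [← Over.w y, ← reassoc_of% hφ]
    change _ = Spec.map _ ≫ Spec.map _ ≫ f
    rw [← Category.assoc (Spec.map φ'), ← Spec.map_comp]
    rfl
  refine ⟨h, Over.homMk (Spec.map (CommRingCat.ofHom e)) ?_, Over.homMk j hj.symm, rfl, ?_, ?_⟩
  · change Spec.map _ ≫ Spec.map _ ≫ Spec.map _ ≫ f = Spec.map _ ≫ f
    rw [← Category.assoc, LieS.specMap_comp, he, CommRingCat.ofHom_id]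
    erw [Spec.map_id, Category.id_comp]
  · ext : 1
    change Spec.map _ ≫ Spec.map _ = 𝟙 _
    rw [LieS.specMap_comp, he, CommRingCat.ofHom_id]
    erw [Spec.map_id]
  · ext : 1
    change j ≫ y.left = Spec.map _ ≫ Spec.map _
    rw [LieS.specMap_comp, hfac, ← hφ]
    rfl

end Groth.Agent.LieS93
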