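import Groth.Prelude.Def_LieS
import Groth.Prelude.Def_Red

/-!
The Lie algebra of a diagonalisable group.
-/

set_option autoImplicit false
set_option backward.isDefEq.respectTransparency false

universe u

noncomputable section

open CategoryTheory MonoidalCategory CartesianMonoidalCategory MonObj GrpObj AlgebraicGeometry

namespace Groth.Agent.LieS93

variable {R : Type u} [CommRing R] {M : Type} [AddCommGroup M] {B : Type u} [CommRing B] [Algebra R B]

local notation "A" => MonoidAlgebra R (Multiplicative M)

/-- The algebra map attached to a point of the dual numbers. -/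
def algPt (v : LieS.dpt B (Spec.map (CommRingCat.ofHom (algebraMap R B))) ⟶ Red.diag R M) :
    A →ₐ[R] DualNumber B :=
  (Spec.mapMulEquiv.symm ((LieS.dptIso B).inv ≫ v)).ofConv

lemma mapMulEquiv_left {S T : Type u} [CommRing S] [CommRing T] [Bialgebra R S] [Algebra R T]
    (f : WithConv (S →ₐ[R] T)) :
    (Spec.mapMulEquiv f).left = Spec.map (CommRingCat.ofHom f.ofConv.toRingHom) := by
  simp [Spec.mapMulEquiv]

lemma left_eq (v : LieS.dpt B (Spec.map (CommRingCat.ofHom (algebraMap R B))) ⟶ Red.diag R M) :
    v.left = Spec.map (CommRingCat.ofHom (algPt v).toRingHom) := by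
  rw [algPt, ← mapMulEquiv_left, MulEquiv.apply_symm_apply, Over.comp_left]
  exact (Category.id_comp _).symm

lemma algPt_injective {v w : LieS.dpt B (Spec.map (CommRingCat.ofHom (algebraMap R B))) ⟶ Red.diag R M}
    (h : algPt v = algPt w) : v = w := by
  ext : 1
  rw [left_eq, left_eq, h]

lemma one_left : (1 : LieS.pt B (Spec.map (CommRingCat.ofHom (algebraMap R B))) ⟶ Red.diag R M).left =
    Spec.map (CommRingCat.ofHom ((1 : WithConv (A →ₐ[R] B)).ofConv).toRingHom) :=
  (congrArg CommaMorphism.left (map_one (Spec.mapMulEquiv (R := R) (S := A) (T := B)))).symm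

lemma one_single (m : M) :
    (1 : WithConv (A →ₐ[R] B)).ofConv (MonoidAlgebra.single (Multiplicative.ofAdd m) 1) = 1 := by
  simp [AlgHom.convOne_apply]

lemma mem_iff (v : LieS.dpt B (Spec.map (CommRingCat.ofHom (algebraMap R B))) ⟶ Red.diag R M) :
    v ∈ LieS.LieR (Red.diag R M) B ↔
      ∀ m : M, (algPt v (MonoidAlgebra.single (Multiplicative.ofAdd m) 1)).fst = 1 := by
  rw [LieS.mem_Lie_iff]
  constructor
  · intro h m
    have h1 : (LieS.zeroSec B _ ≫ v).left = (1 : LieS.pt B _ ⟶ Red.diag R M).left := congrArg CommaMorphism.left h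
    rw [one_left] at h1
    change Spec.map _ ≫ v.left = _ at h1
    rw [left_eq, LieS.specMap_comp] at h1
    exact (DFunLike.congr_fun (congrArg CommRingCat.Hom.hom (Spec.map_injective h1)) _).trans (one_single m)
  · intro h
    ext : 1
    rw [one_left]
    change Spec.map _ ≫ v.left = _
    rw [left_eq, LieS.specMap_comp]
    congr 2
    have := MonoidAlgebra.algHom_ext
      (φ₁ := ((TrivSqZeroExt.fstHom B B B).restrictScalars R).comp (algPt v))
      (φ₂ := (1 : WithConv (A →ₐ[R] B)).ofConv) (fun g => (h g.toAdd).trans (one_single g.toAdd).symm) (Subsingleton.elim _ _)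
    exact congrArg AlgHom.toRingHom this

lemma algPt_mul (v w : LieS.LieR (Red.diag R M) B) (m : M) :
    algPt (v * w).1 (MonoidAlgebra.single (Multiplicative.ofAdd m) 1) =
      algPt v.1 (MonoidAlgebra.single (Multiplicative.ofAdd m) 1) *
        algPt w.1 (MonoidAlgebra.single (Multiplicative.ofAdd m) 1) := by
  have h : algPt (v.1 * w.1) = (WithConv.toConv (algPt v.1) * WithConv.toConv (algPt w.1)).ofConv := by
    simp only [algPt, MonObj.comp_mul, map_mul]
  rw [Subgroup.coe_mul, h, AlgHom.convMul_apply]
  simp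

lemma algPt_smul (b : B) (v : LieS.LieR (Red.diag R M) B) (x : A) :
    algPt (b • v).1 x = LieS.scaleHom b (algPt v.1 x) := by
  have h : (b • v).1.left = Spec.map (CommRingCat.ofHom (LieS.scaleHom b)) ≫ v.1.left := rfl
  rw [left_eq, left_eq, LieS.specMap_comp] at h
  exact DFunLike.congr_fun (congrArg CommRingCat.Hom.hom (Spec.map_injective h)) x

/-- The monoid homomorphism `m ↦ 1 + χ(m) ε`. -/
def expEps (χ : M →+ B) : Multiplicative M →* DualNumber B where
  toFun m := TrivSqZeroExt.inl 1 + TrivSqZeroExt.inr (χ m.toAdd)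
  map_one' := by simp
  map_mul' m n := by
    refine TrivSqZeroExt.ext ?_ ?_ <;> simp [add_comm]

theorem exists_lieEquiv :
    ∃ e : LieS.LieR (Red.diag R M) B ≃* Multiplicative (M →+ B),
      (∀ (v : LieS.LieR (Red.diag R M) B) (m : M),
        Multiplicative.toAdd (e v) m =
          TrivSqZeroExt.snd (algPt v.1 (MonoidAlgebra.single (Multiplicative.ofAdd m) 1))) ∧
      ∀ (b : B) (v : LieS.LieR (Red.diag R M) B),
        e (b • v) = Multiplicative.ofAdd (b • Multiplicative.toAdd (e v)) := by
  have hfst : ∀ (v : LieS.LieR (Red.diag R M) B) (m : M),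
      (algPt v.1 (MonoidAlgebra.single (Multiplicative.ofAdd m) 1)).fst = 1 := fun v => (mem_iff v.1).1 v.2
  have hadd : ∀ (v : LieS.LieR (Red.diag R M) B) (m n : M),
      (algPt v.1 (MonoidAlgebra.single (Multiplicative.ofAdd (m + n)) 1)).snd =
        (algPt v.1 (MonoidAlgebra.single (Multiplicative.ofAdd m) 1)).snd +
        (algPt v.1 (MonoidAlgebra.single (Multiplicative.ofAdd n) 1)).snd := by
    intro v m n
    have : MonoidAlgebra.single (Multiplicative.ofAdd (m + n)) (1 : R) =
        MonoidAlgebra.single (Multiplicative.ofAdd m) 1 * MonoidAlgebra.single (Multiplicative.ofAdd n) 1 := by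
      rw [MonoidAlgebra.single_mul_single, _root_.one_mul]; rfl
    rw [this, map_mul, DualNumber.snd_mul, hfst, hfst, _root_.one_mul, _root_.mul_one, add_comm]
  let E : LieS.LieR (Red.diag R M) B →* Multiplicative (M →+ B) :=
    { toFun := fun v => Multiplicative.ofAdd (AddMonoidHom.mk'
        (fun m => (algPt v.1 (MonoidAlgebra.single (Multiplicative.ofAdd m) 1)).snd) (hadd v))
      map_one' := by
        apply Multiplicative.toAdd.injective
        ext m
        have h : algPt (1 : LieS.LieR (Red.diag R M) B).1 = (1 : WithConv (A →ₐ[R] DualNumber B)).ofConv := by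
          simp only [algPt, OneMemClass.coe_one, MonObj.comp_one, map_one]
        change (algPt (1 : LieS.LieR (Red.diag R M) B).1 (MonoidAlgebra.single (Multiplicative.ofAdd m) 1)).snd = 0
        rw [h]
        simp [AlgHom.convOne_apply]
      map_mul' := fun v w => by
        apply Multiplicative.toAdd.injective
        ext m
        change (algPt (v * w).1 (MonoidAlgebra.single (Multiplicative.ofAdd m) 1)).snd =
          (algPt v.1 (MonoidAlgebra.single (Multiplicative.ofAdd m) 1)).snd +
            (algPt w.1 (MonoidAlgebra.single (Multiplicative.ofAdd m) 1)).snd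
        rw [algPt_mul, DualNumber.snd_mul, hfst, hfst, _root_.one_mul, _root_.mul_one, add_comm] }
  have hinj : Function.Injective E := by
    intro v w h
    refine Subtype.ext (algPt_injective (MonoidAlgebra.algHom_ext (fun g => TrivSqZeroExt.ext ?_ ?_) (Subsingleton.elim _ _)))
    · exact (hfst v g.toAdd).trans (hfst w g.toAdd).symm
    · exact DFunLike.congr_fun (congrArg Multiplicative.toAdd h) g.toAdd
  have hsurj : Function.Surjective E := by
    intro χ
    let a : A →ₐ[R] DualNumber B := MonoidAlgebra.lift R (DualNumber B) (Multiplicative M) (expEps χ.toAdd)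
    let v : LieS.dpt B (Spec.map (CommRingCat.ofHom (algebraMap R B))) ⟶ Red.diag R M :=
      (LieS.dptIso B).hom ≫ Spec.mapMulEquiv (WithConv.toConv a)
    have hv : algPt v = a := by
      simp only [algPt, v, Iso.inv_hom_id_assoc, MulEquiv.symm_apply_apply]
    refine ⟨⟨v, (mem_iff v).2 fun m => ?_⟩, ?_⟩
    · simp [hv, a, expEps]
    · apply Multiplicative.toAdd.injective
      ext m
      simp [E, hv, a, expEps]
  refine ⟨MulEquiv.ofBijective E ⟨hinj, hsurj⟩, fun v m => rfl, fun b v => ?_⟩
  apply Multiplicative.toAdd.injective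
  ext m
  simp [E, algPt_smul, LieS.scaleHom, TrivSqZeroExt.algebraMap_eq_inl', mul_comm]

end Groth.Agent.LieS93
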