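import Groth.Agent.LieS93.Bracket

/-!
The Lie algebra of a group scheme over an affine test scheme.
-/

set_option autoImplicit false
set_option backward.isDefEq.respectTransparency false

universe u

noncomputable section

open CategoryTheory MonoidalCategory CartesianMonoidalCategory MonObj GrpObj AlgebraicGeometry

namespace Groth.Agent.LieS93

variable {S : Scheme.{u}} (G : Over S) [GrpObj G] (B : Type u) [CommRing B]
  (f : Spec (CommRingCat.of B) ⟶ S)

/-- The carrier of the Lie algebra: the tangent group written additively. -/
def LieAlg : Type u := Additive ↥(LieS.Lie G B f)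

namespace LieAlg

variable {G B f}

/-- The element of a tangent vector. -/
def mk (v : LieS.Lie G B f) : LieAlg G B f := Additive.ofMul v

/-- The tangent vector of an element. -/
def get (x : LieAlg G B f) : LieS.Lie G B f := Additive.toMul x

instance : AddGroup (LieAlg G B f) := inferInstanceAs (AddGroup (Additive ↥(LieS.Lie G B f)))

instance : AddCommGroup (LieAlg G B f) :=
  { (inferInstance : AddGroup (LieAlg G B f)) with
    add_comm := fun x y => congrArg mk (lie_mul_comm f (get x) (get y)) }

lemma get_inj {x y : LieAlg G B f} (h : get x = get y) : x = y := h

instance : SMul B (LieAlg G B f) := ⟨fun b x => mk (b • get x)⟩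

instance : Module B (LieAlg G B f) where
  one_smul x := get_inj (one_smul' f (get x))
  mul_smul b c x := get_inj (mul_smul' f b c (get x))
  smul_zero b := get_inj (mul_eq_left.1 (((smul_mul' f b 1 1).symm.trans
    (congrArg (b • ·) (_root_.one_mul (1 : ↥(LieS.Lie G B f)))))))
  smul_add b x y := get_inj (smul_mul' f b (get x) (get y))
  add_smul b c x := get_inj (add_smul' f b c (get x))
  zero_smul x := get_inj (zero_smul' f (get x))

instance : Bracket (LieAlg G B f) (LieAlg G B f) := ⟨fun x y => mk (bk f (get x) (get y))⟩

instance : LieRing (LieAlg G B f) where
  add_lie x y z := get_inj (bk_mul_left f (get x) (get y) (get z))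
  lie_add x y z := get_inj (bk_mul_right f (get x) (get y) (get z))
  lie_self x := get_inj (bk_self f (get x))
  leibniz_lie x y z := get_inj (show bk f (get x) (bk f (get y) (get z)) =
      bk f (bk f (get x) (get y)) (get z) * bk f (get y) (bk f (get x) (get z)) by
    rw [bk_jacobi f (get y) (get z) (get x), lie_mul_comm])

instance : LieAlgebra B (LieAlg G B f) where
  lie_smul b x y := get_inj (bk_smul_right f b (get x) (get y))

/-- The tautological model. -/
def model : LieS.Model G B f (LieAlg G B f) where
  e :=
    { toFun := fun x => get (Multiplicative.toAdd x)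
      invFun := fun v => Multiplicative.ofAdd (mk v)
      left_inv := fun _ => rfl
      right_inv := fun _ => rfl
      map_mul' := fun _ _ => rfl }
  e_smul _ _ := rfl
  e_lie x y := bk_spec f (get x) (get y)

end LieAlg

end Groth.Agent.LieS93
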