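import Groth.Agent.LieS93.Nil
import Groth.Agent.H98QP.Milnor

/-!
Elements of the Lie algebra of a group scheme evaluated at square-zero elements, and existence of brackets.
-/

set_option autoImplicit false
set_option backward.isDefEq.respectTransparency false
set_option backward.isDefEq.respectTransparency.types false

universe u

noncomputable section

open CategoryTheory MonoidalCategory CartesianMonoidalCategory MonObj GrpObj AlgebraicGeometry

namespace Groth.Agent.LieS93

variable {S : Scheme.{u}} {G : Over S} [GrpObj G] {B : Type u} [CommRing B]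
  (f : Spec (CommRingCat.of B) ⟶ S) {C : Type u} [CommRing C] (h : B →+* C)

/-- The test object of a ring over `B`. -/
abbrev W : Over S := Over.mk (Spec.map (CommRingCat.ofHom h) ≫ f)

/-- The morphism of test objects of a map over `B`. -/
def wm {C' : Type u} [CommRing C'] {h' : B →+* C'} (ψ : C →+* C') (hψ : ψ.comp h = h') : W f h' ⟶ W f h :=
  Over.homMk (Spec.map (CommRingCat.ofHom ψ)) (by
    subst hψ
    change Spec.map _ ≫ Spec.map _ ≫ f = Spec.map _ ≫ f
    rw [← Category.assoc, LieS.specMap_comp])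

/-- The point of the dual numbers given by a square-zero element. -/
def ev (c : C) (hc : c * c = 0) : W f h ⟶ LieS.dpt B f :=
  Over.homMk (Spec.map (CommRingCat.ofHom (LieS.dualHom h c hc))) (by
    change Spec.map _ ≫ Spec.map _ ≫ f = Spec.map _ ≫ f
    rw [← Category.assoc, LieS.specMap_comp, LieS.dualHom_comp_algebraMap])

/-- The value of a Lie algebra element at a square-zero element. -/
def val (c : C) (hc : c * c = 0) (v : LieS.Lie G B f) : W f h ⟶ G := ev f h c hc ≫ v.1

/-- Precomposition, as a homomorphism of groups of points. -/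
def pre {X Y : Over S} (a : X ⟶ Y) : (Y ⟶ G) →* (X ⟶ G) := ((yonedaGrpObj G).map a.op).hom

lemma pre_apply {X Y : Over S} (a : X ⟶ Y) (v : Y ⟶ G) : pre a v = a ≫ v := rfl

lemma ev_eq {c d : C} (hc : c * c = 0) (hd : d * d = 0) (e : c = d) : ev f h c hc = ev f h d hd := by
  subst e; rfl

lemma val_eq {c d : C} (hc : c * c = 0) (hd : d * d = 0) (e : c = d) (v : LieS.Lie G B f) :
    val f h c hc v = val f h d hd v := by subst e; rfl

lemma val_mul (c : C) (hc : c * c = 0) (v w : LieS.Lie G B f) :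
    val f h c hc (v * w) = val f h c hc v * val f h c hc w :=
  MonObj.comp_mul _ v.1 w.1

lemma val_one (c : C) (hc : c * c = 0) : val f h c hc (1 : LieS.Lie G B f) = 1 :=
  map_one (pre (ev f h c hc))

lemma val_inv (c : C) (hc : c * c = 0) (v : LieS.Lie G B f) :
    val f h c hc v⁻¹ = (val f h c hc v)⁻¹ :=
  map_inv (pre (ev f h c hc)) v.1

variable {C' : Type u} [CommRing C'] {h' : B →+* C'}

lemma wm_ev (ψ : C →+* C') (hψ : ψ.comp h = h') {c : C} (hc : c * c = 0) {d : C'} (hd : d * d = 0)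
    (e : ψ c = d) : wm f h ψ hψ ≫ ev f h c hc = ev f h' d hd := by
  subst hψ e
  ext : 1
  change Spec.map _ ≫ Spec.map _ = Spec.map _
  rw [LieS.specMap_comp]
  congr 2
  exact RingHom.ext fun x => by simp [map_add, map_mul]

lemma wm_val (ψ : C →+* C') (hψ : ψ.comp h = h') {c : C} (hc : c * c = 0) {d : C'} (hd : d * d = 0)
    (e : ψ c = d) (v : LieS.Lie G B f) : wm f h ψ hψ ≫ val f h c hc v = val f h' d hd v := by
  rw [val, val, ← Category.assoc, wm_ev f h ψ hψ hc hd e]

lemma smul_val' (b : B) (c : C) (hc : c * c = 0) {d : C} (hd : d * d = 0) (e : h b * c = d)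
    (v : LieS.Lie G B f) : val f h c hc (b • v) = val f h d hd v := by
  subst e
  rw [val, val, LieS.smul_val, ← Category.assoc]
  congr 1
  ext : 1
  change Spec.map _ ≫ Spec.map _ = Spec.map _
  rw [LieS.specMap_comp]
  congr 2
  exact RingHom.ext fun x => by
    simp [LieS.scaleHom, TrivSqZeroExt.algebraMap_eq_inl']
    ring

lemma val_of_eq_zero (c : C) (hc : c * c = 0) (e : c = 0) (v : LieS.Lie G B f) : val f h c hc v = 1 := by
  subst e
  let w : W f h ⟶ LieS.pt B f := Over.homMk (Spec.map (CommRingCat.ofHom h)) rfl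
  have : ev f h 0 hc = w ≫ LieS.zeroSec B f := by
    ext : 1
    change Spec.map _ = Spec.map _ ≫ Spec.map _
    rw [LieS.specMap_comp]
    congr 2
    exact RingHom.ext fun x => by simp
  rw [val, this, Category.assoc, (LieS.mem_Lie_iff G B f v.1).1 v.2, MonObj.comp_one]

/-- The commutator of two values. -/
def com {X : Over S} (a b : X ⟶ G) : X ⟶ G := a * b * a⁻¹ * b⁻¹

lemma pre_com {X Y : Over S} (w : X ⟶ Y) (a b : Y ⟶ G) : w ≫ com a b = com (w ≫ a) (w ≫ b) := by
  change pre w (com a b) = com (pre w a) (pre w b)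
  simp [com]

/-! The square used for the existence of brackets. -/

/-- The first dual coordinate. -/
def e₁ (B : Type u) [CommRing B] : LieS.D2 B := algebraMap (DualNumber B) (LieS.D2 B) DualNumber.eps

/-- The second dual coordinate. -/
def e₂ (B : Type u) [CommRing B] : LieS.D2 B := DualNumber.eps

lemma e₁_sq : e₁ B * e₁ B = 0 := by rw [e₁, ← map_mul, DualNumber.eps_mul_eps, map_zero]

lemma e₂_sq : e₂ B * e₂ B = 0 := DualNumber.eps_mul_eps

lemma e₁₂_sq : e₁ B * e₂ B * (e₁ B * e₂ B) = 0 := by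
  calc e₁ B * e₂ B * (e₁ B * e₂ B) = e₁ B * e₁ B * (e₂ B * e₂ B) := by ring
    _ = 0 := by rw [(e₁_sq (B := B)), zero_mul]

lemma inr_sq (m : B × B) : (TrivSqZeroExt.inr m : TrivSqZeroExt B (B × B)) * TrivSqZeroExt.inr m = 0 :=
  TrivSqZeroExt.inr_mul_inr B m m

/-- The quotient of the iterated dual numbers by the product of the two coordinates. -/
def mod12 (B : Type u) [CommRing B] : LieS.D2 B →+* TrivSqZeroExt B (B × B) :=
  LieS.dualHom (TrivSqZeroExt.map (LinearMap.inl B B B)).toRingHom (TrivSqZeroExt.inr (0, 1)) (inr_sq _)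

lemma mod12_comp : (mod12 B).comp (LieS.toD2 B) = algebraMap B (TrivSqZeroExt B (B × B)) := by
  refine RingHom.ext fun b => ?_
  simp [mod12, TrivSqZeroExt.algebraMap_eq_inl']

lemma mod12_e₁ : mod12 B (e₁ B) = TrivSqZeroExt.inr (1, 0) := by
  simp [mod12, e₁, TrivSqZeroExt.algebraMap_eq_inl']
  exact TrivSqZeroExt.map_inr _ _

lemma mod12_e₂ : mod12 B (e₂ B) = TrivSqZeroExt.inr (0, 1) := by
  simp [mod12, e₂]

lemma mod12_apply (t : LieS.D2 B) :
    mod12 B t = TrivSqZeroExt.inl t.fst.fst + TrivSqZeroExt.inr (t.fst.snd, t.snd.fst) := by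
  refine TrivSqZeroExt.ext ?_ (Prod.ext ?_ ?_) <;> simp [mod12]

lemma square : H98QP.Square (C := DualNumber B) (A₀ := B) (B' := LieS.D2 B) (B := TrivSqZeroExt B (B × B))
    (TrivSqZeroExt.fstHom B B B).toRingHom (LieS.mulHom B)
    (algebraMap B (TrivSqZeroExt B (B × B))) (mod12 B) where
  comm := by
    refine RingHom.ext fun x => ?_
    simp [mod12_apply, LieS.mulHom, TrivSqZeroExt.algebraMap_eq_inl']
    exact TrivSqZeroExt.inr_zero B
  surj := fun t => ⟨TrivSqZeroExt.inl (TrivSqZeroExt.inl t.fst + TrivSqZeroExt.inr t.snd.1) +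
    TrivSqZeroExt.inr (TrivSqZeroExt.inl t.snd.2), by
      refine TrivSqZeroExt.ext ?_ (Prod.ext ?_ ?_) <;> simp [mod12_apply]⟩
  ext := fun x y _ hq => mulHom_injective B hq
  lift := fun a b hab => by
    refine ⟨TrivSqZeroExt.inl a + TrivSqZeroExt.inr b.snd.snd, by simp, ?_⟩
    have h0 : a = b.fst.fst := by
      simpa [mod12_apply, TrivSqZeroExt.algebraMap_eq_inl'] using congrArg TrivSqZeroExt.fst hab
    have h12 : (0 : B × B) = (b.fst.snd, b.snd.fst) := by
      have := congrArg TrivSqZeroExt.snd hab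
      rw [mod12_apply, TrivSqZeroExt.algebraMap_eq_inl] at this
      simpa only [TrivSqZeroExt.snd_inl, TrivSqZeroExt.snd_add, TrivSqZeroExt.snd_inr, zero_add] using this
    have h1 : b.fst.snd = 0 := (congrArg Prod.fst h12).symm
    have h2 : b.snd.fst = 0 := (congrArg Prod.snd h12).symm
    refine TrivSqZeroExt.ext (TrivSqZeroExt.ext ?_ ?_) (TrivSqZeroExt.ext ?_ ?_) <;>
      simp [LieS.mulHom, TrivSqZeroExt.algebraMap_eq_inl', h0, h1, h2]

/-- Comparison of the two structures of the iterated dual numbers. -/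
def toW : LieS.d2pt B f ⟶ W (C := LieS.D2 B) f (LieS.toD2 B) :=
  Over.homMk (𝟙 (Spec (CommRingCat.of (LieS.D2 B)))) (by
    change 𝟙 (Spec (CommRingCat.of (LieS.D2 B))) ≫ Spec.map _ ≫ f = Spec.map _ ≫ Spec.map _ ≫ f
    rw [Category.id_comp, ← Category.assoc, LieS.specMap_comp])

/-- Comparison of the two structures of the iterated dual numbers. -/
def ofW : W (C := LieS.D2 B) f (LieS.toD2 B) ⟶ LieS.d2pt B f :=
  Over.homMk (𝟙 (Spec (CommRingCat.of (LieS.D2 B)))) (by
    change 𝟙 (Spec (CommRingCat.of (LieS.D2 B))) ≫ Spec.map _ ≫ Spec.map _ ≫ f = Spec.map _ ≫ f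
    rw [Category.id_comp, ← Category.assoc, LieS.specMap_comp])

lemma ofW_toW : ofW f ≫ toW f = 𝟙 (W (C := LieS.D2 B) f (LieS.toD2 B)) := by
  ext : 1
  change 𝟙 (Spec (CommRingCat.of (LieS.D2 B))) ≫ 𝟙 (Spec (CommRingCat.of (LieS.D2 B))) =
    𝟙 (Spec (CommRingCat.of (LieS.D2 B)))
  exact Category.id_comp (𝟙 (Spec (CommRingCat.of (LieS.D2 B))))

/-- Evaluation at the product of the coordinates. -/
def E₁₂ :=
  ev (C := LieS.D2 B) f (LieS.toD2 B) (e₁ B * e₂ B) (e₁₂_sq (B := B))

/-- Evaluation at the first coordinate. -/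
def E₁ :=
  ev (C := LieS.D2 B) f (LieS.toD2 B) (e₁ B) (e₁_sq (B := B))

/-- Evaluation at the second coordinate. -/
def E₂ :=
  ev (C := LieS.D2 B) f (LieS.toD2 B) (e₂ B) (e₂_sq (B := B))

lemma mulMap_eq : LieS.mulMap B f = toW f ≫ E₁₂ f := by
  ext : 1
  rfl

lemma dptMap_eq : LieS.dptMap f (algebraMap B (DualNumber B)) = toW f ≫ E₂ f := by
  ext : 1
  rfl

lemma proj_eq : LieS.proj (DualNumber B) (LieS.dpt B f).hom = toW f ≫ E₁ f := by
  ext : 1
  rw [Over.comp_left]
  change Spec.map _ = 𝟙 (Spec (CommRingCat.of (LieS.D2 B))) ≫ Spec.map _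
  rw [Category.id_comp]
  congr 2
  refine RingHom.ext fun x => ?_
  refine TrivSqZeroExt.ext (TrivSqZeroExt.ext ?_ ?_) (TrivSqZeroExt.ext ?_ ?_) <;>
    simp [e₁, TrivSqZeroExt.algebraMap_eq_inl']

lemma val_eps (v : LieS.Lie G B f) :
    val (C := DualNumber B) f (algebraMap B (DualNumber B)) DualNumber.eps (LieS.eps_sq B) v = v.1 := by
  have : ev (C := DualNumber B) f (algebraMap B (DualNumber B)) DualNumber.eps (LieS.eps_sq B) =
      𝟙 (LieS.dpt B f) := by
    ext : 1
    change Spec.map _ = 𝟙 _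
    rw [show LieS.dualHom (algebraMap B (DualNumber B)) DualNumber.eps (LieS.eps_sq B) = RingHom.id _ from
      RingHom.ext fun x => TrivSqZeroExt.ext (by simp [TrivSqZeroExt.algebraMap_eq_inl'])
        (by simp [TrivSqZeroExt.algebraMap_eq_inl']), CommRingCat.ofHom_id]
    erw [Spec.map_id]
  rw [val, this]
  exact Category.id_comp v.1

/-- Value at the product of the coordinates. -/
def V₁₂ (v : LieS.Lie G B f) := val (C := LieS.D2 B) f (LieS.toD2 B) (e₁ B * e₂ B) (e₁₂_sq (B := B)) v

/-- Value at the first coordinate. -/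
def V₁ (v : LieS.Lie G B f) := val (C := LieS.D2 B) f (LieS.toD2 B) (e₁ B) (e₁_sq (B := B)) v

/-- Value at the second coordinate. -/
def V₂ (v : LieS.Lie G B f) := val (C := LieS.D2 B) f (LieS.toD2 B) (e₂ B) (e₂_sq (B := B)) v

lemma isBracket_iff (x y z : LieS.Lie G B f) :
    LieS.IsBracket G B f x y z ↔ V₁₂ f z = com (V₂ f x) (V₁ f y) := by
  rw [LieS.IsBracket, mulMap_eq, dptMap_eq, proj_eq, Category.assoc, Category.assoc, Category.assoc]
  change pre (toW f) (V₁₂ f z) =
    pre (toW f) (V₂ f x) * pre (toW f) (V₁ f y) * (pre (toW f) (V₂ f x))⁻¹ * (pre (toW f) (V₁ f y))⁻¹ ↔ _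
  rw [← map_inv, ← map_inv, ← map_mul, ← map_mul, ← map_mul]
  constructor
  · intro e
    have := congrArg (pre (ofW f)) e
    simp only [pre_apply, ← Category.assoc, ofW_toW, Category.id_comp] at this
    exact this
  · intro e
    exact congrArg (pre (toW f)) e

/-- The map to the double thickening. -/
def m12Of := wm (C := LieS.D2 B) (C' := TrivSqZeroExt B (B × B)) f (LieS.toD2 B)
  (h' := algebraMap B (TrivSqZeroExt B (B × B))) (mod12 B)

/-- The map to the double thickening. -/
def m12 := m12Of f (mod12_comp (B := B))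

lemma m12_V₁ (v : LieS.Lie G B f) :
    m12 f ≫ V₁ f v = val (C := TrivSqZeroExt B (B × B)) f (algebraMap B (TrivSqZeroExt B (B × B)))
      (TrivSqZeroExt.inr (1, 0)) (inr_sq _) v :=
  by
  dsimp only [m12, m12Of, V₁]
  exact wm_val f _ _ _ _ _ mod12_e₁ v

lemma m12_V₂ (v : LieS.Lie G B f) :
    m12 f ≫ V₂ f v = val (C := TrivSqZeroExt B (B × B)) f (algebraMap B (TrivSqZeroExt B (B × B)))
      (TrivSqZeroExt.inr (0, 1)) (inr_sq _) v :=
  by
  dsimp only [m12, m12Of, V₂]
  exact wm_val f _ _ _ _ _ mod12_e₂ v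

section Axes

variable (L : B × B →ₗ[B] B)

lemma sm_val (m : B × B) (n : B) (e : L m = n) (v : LieS.Lie G B f) :
    sm f L ≫ (val (C := TrivSqZeroExt B (B × B)) f (algebraMap B (TrivSqZeroExt B (B × B)))
      (TrivSqZeroExt.inr m) (inr_sq m) v) =
      val (C := DualNumber B) f (algebraMap B (DualNumber B)) (TrivSqZeroExt.inr n)
        (TrivSqZeroExt.inr_mul_inr B n n) v :=
  wm_val (C := TrivSqZeroExt B (B × B)) (C' := DualNumber B) f _ (TrivSqZeroExt.map L).toRingHom
    (RingHom.ext fun b => (TrivSqZeroExt.map L).commutes b) _ _ (e ▸ TrivSqZeroExt.map_inr L m) v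

end Axes

theorem exists_bracket (x y : LieS.Lie G B f) : ∃ z, LieS.IsBracket G B f x y z := by
  let cm := com (V₂ f x) (V₁ f y)
  have h0 : ∀ v : LieS.Lie G B f, val (C := DualNumber B) f (algebraMap B (DualNumber B))
      (TrivSqZeroExt.inr (0 : B)) (TrivSqZeroExt.inr_mul_inr B 0 0) v = 1 :=
    fun v => val_of_eq_zero f _ _ _ (TrivSqZeroExt.inr_zero B) v
  have hT : m12 f ≫ cm = (1 : sz f (B × B) ⟶ G) := by
    rw [pre_com, m12_V₁, m12_V₂]
    refine pair_ext f _ _ ?_ ?_
    · have k := sm_val f (LinearMap.fst B B B) (0, 1) 0 rfl x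
      refine (pre_com _ _ _).trans ?_
      refine Eq.trans (congrArg₂ com (k.trans (h0 x)) rfl) ?_
      rw [MonObj.comp_one]
      simp [com]
    · have k := sm_val f (LinearMap.snd B B B) (1, 0) 0 rfl y
      refine (pre_com _ _ _).trans ?_
      refine Eq.trans (congrArg₂ com rfl (k.trans (h0 y))) ?_
      rw [MonObj.comp_one]
      simp [com]
  obtain ⟨g, hg1, hg2⟩ := square.exists_glue (G := G.left) (1 : LieS.pt B f ⟶ G).left cm.left (by
    have h1 : (m12 f).left ≫ cm.left = (1 : sz f (B × B) ⟶ G).left :=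
      (Over.comp_left ..).symm.trans (congrArg Over.Hom.left hT)
    refine Eq.trans ?_ h1.symm
    have h2 : (1 : sz f (B × B) ⟶ G) = p f (B × B) ≫ (1 : LieS.pt B f ⟶ G) := (MonObj.comp_one _).symm
    rw [h2, Over.comp_left]
    rfl)
  have hw : g ≫ G.hom = (LieS.dpt B f).hom := by
    refine hom_ext_of_injective (X := Spec (CommRingCat.of (DualNumber B)))
      (Z := fun _ : Unit => Spec (CommRingCat.of (LieS.D2 B)))
      (fun _ => Spec.map (CommRingCat.ofHom (LieS.mulHom B))) (fun x => ⟨(), mulHom_comap_surjective B x⟩) ?_ _ _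
      fun _ => ?_
    · intro m hm
      obtain ⟨t, rfl⟩ := (ConcreteCategory.bijective_of_isIso
        (Scheme.ΓSpecIso (CommRingCat.of (DualNumber B))).inv).2 m
      have := hm ()
      rw [← ConcreteCategory.comp_apply, ← Scheme.ΓSpecIso_inv_naturality, ConcreteCategory.comp_apply] at this
      have ht : LieS.mulHom B t = 0 :=
        (ConcreteCategory.bijective_of_isIso (Scheme.ΓSpecIso (CommRingCat.of (LieS.D2 B))).inv).1
          (this.trans (map_zero _).symm)
      rw [mulHom_injective B (ht.trans (map_zero _).symm), map_zero]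
    · rw [← Category.assoc]
      erw [hg2, Over.w cm]
      change Spec.map _ ≫ f = Spec.map _ ≫ Spec.map _ ≫ f
      rw [← Category.assoc, LieS.specMap_comp, LieS.mulHom_comp_algebraMap]
  let z : LieS.dpt B f ⟶ G := Over.homMk g hw
  have hz : z ∈ LieS.Lie G B f := by
    rw [LieS.mem_Lie_iff]
    exact Over.OverMorphism.ext hg1
  refine ⟨⟨z, hz⟩, (isBracket_iff f x y _).2 (Over.OverMorphism.ext ?_)⟩
  exact hg2

/-- The bracket. -/
def bk (x y : LieS.Lie G B f) : LieS.Lie G B f := (exists_bracket f x y).choose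

lemma bk_spec (x y : LieS.Lie G B f) : LieS.IsBracket G B f x y (bk f x y) := (exists_bracket f x y).choose_spec

/-- The map of the iterated dual numbers given by two square-zero elements. -/
def pairHom (c d : C) (hc : c * c = 0) (hd : d * d = 0) : LieS.D2 B →+* C :=
  LieS.dualHom (LieS.dualHom h d hd) c hc

lemma pairHom_comp (c d : C) (hc : c * c = 0) (hd : d * d = 0) :
    (pairHom h c d hc hd).comp (LieS.toD2 B) = h := by
  refine RingHom.ext fun b => ?_
  simp [pairHom, TrivSqZeroExt.algebraMap_eq_inl']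

lemma pairHom_e₁ (c d : C) (hc : c * c = 0) (hd : d * d = 0) : pairHom h c d hc hd (e₁ B) = d := by
  simp [pairHom, e₁, TrivSqZeroExt.algebraMap_eq_inl']

lemma pairHom_e₂ (c d : C) (hc : c * c = 0) (hd : d * d = 0) : pairHom h c d hc hd (e₂ B) = c := by
  simp [pairHom, e₂]

/-- The commutator of two values is the value of the bracket. -/
theorem com_val {c d : C} (hc : c * c = 0) (hd : d * d = 0) {e : C} (he : e * e = 0) (hcd : c * d = e)
    (x y : LieS.Lie G B f) :
    com (val f h c hc x) (val f h d hd y) = val f h e he (bk f x y) := by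
  have h1 := (isBracket_iff f x y _).1 (bk_spec f x y)
  let w := wm (C := LieS.D2 B) f (LieS.toD2 B) (pairHom h c d hc hd) (pairHom_comp h c d hc hd)
  have k₁ : w ≫ V₁ f y = val f h d hd y := wm_val f _ _ _ _ _ (pairHom_e₁ h c d hc hd) y
  have k₂ : w ≫ V₂ f x = val f h c hc x := wm_val f _ _ _ _ _ (pairHom_e₂ h c d hc hd) x
  have k₁₂ : w ≫ V₁₂ f (bk f x y) = val f h e he (bk f x y) :=
    wm_val f _ _ _ _ _ (by rw [map_mul, pairHom_e₁, pairHom_e₂, mul_comm, hcd]) _
  rw [← k₁₂, h1, pre_com, k₁, k₂]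

theorem bk_unique {x y z : LieS.Lie G B f} (hz : V₁₂ f z = com (V₂ f x) (V₁ f y)) : z = bk f x y := by
  refine Subtype.ext (mulMap_cancel f _ _ ?_)
  exact ((isBracket_iff f x y z).2 hz).trans (bk_spec f x y).symm

end Groth.Agent.LieS93
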